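import Cfsg.Agent.H440.TwoGen.Rud

/-!
# S4979 (A), [SP3]: two conjugates of an element of order 5 generate the Rudvalis group (helper269)

In `RuOrder.H` the element `x = y f d⁻¹ t y f⁻¹ y` has order 5 and `⟨x, t⟩ = H` (`f y` is a word in `x` and the involution
`t`, found by a meet in the middle search); so `⟨x, t x t⟩` is normal in the simple group `H`, that is, it is `H`.
-/

set_option autoImplicit false
set_option maxRecDepth 100000

open Cfsg

namespace Cfsg.Agent.H269.QA.RuGen

open Cfsg.Agent.SporadicB Cfsg.Agent.RuD.Letters Cfsg.Agent.RuD.Model Cfsg.Agent.SporRec.TCUpperCert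

/-- in a simple group generated by `x` and an involution `t`, the elements `x` and `t x t⁻¹` generate -/
theorem closure_conj {G : Type*} [Group G] [IsSimpleGroup G] {x t : G} (hx : x ≠ 1) (ht : t * t = 1)
    (h : Subgroup.closure ({x, t} : Set G) = ⊤) : Subgroup.closure ({x, t * x * t⁻¹} : Set G) = ⊤ := by
  set N := Subgroup.closure ({x, t * x * t⁻¹} : Set G) with hN
  have h1 : x ∈ N := Subgroup.subset_closure (by simp)
  have h2 : t * x * t⁻¹ ∈ N := Subgroup.subset_closure (by simp)
  have ti : t⁻¹ = t := inv_eq_of_mul_eq_one_left ht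
  have hconj : ∀ n ∈ N, t * n * t⁻¹ ∈ N := by
    intro n hn
    have h3 : N ≤ N.comap (MulAut.conj t).toMonoidHom := by
      rw [hN, Subgroup.closure_le]
      intro y hy
      simp only [Set.mem_insert_iff, Set.mem_singleton_iff] at hy
      rcases hy with rfl | rfl
      · exact h2
      · change t * (t * x * t⁻¹) * t⁻¹ ∈ N
        have : t * (t * x * t⁻¹) * t⁻¹ = (t * t) * x * (t * t)⁻¹ := by group
        rw [this, ht, one_mul, inv_one, mul_one]
        exact h1
    exact h3 hn
  have hnorm : N.Normal := by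
    have h4 : Subgroup.closure ({x, t} : Set G) ≤ Subgroup.normalizer (N : Set G) := by
      rw [Subgroup.closure_le]
      intro y hy
      simp only [Set.mem_insert_iff, Set.mem_singleton_iff] at hy
      rcases hy with rfl | rfl
      · exact Subgroup.le_normalizer h1
      · rw [SetLike.mem_coe, Subgroup.mem_normalizer_iff]
        intro n
        refine ⟨fun hn => hconj n hn, fun hn => ?_⟩
        have h5 := hconj _ hn
        have : y * (y * n * y⁻¹) * y⁻¹ = (y * y) * n * (y * y)⁻¹ := by group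
        rw [this, ht, one_mul, inv_one, mul_one] at h5
        exact h5
    rw [h, top_le_iff] at h4
    exact Subgroup.normalizer_eq_top_iff.1 h4
  rcases hnorm.eq_bot_or_eq_top with h6 | h6
  · rw [h6, Subgroup.mem_bot] at h1
    exact absurd h1 hx
  · exact h6

/-- `x = y f d⁻¹ t y f⁻¹ y` -/
def X : List ℕ := [5, 3, 8, 0, 5, 7, 5]

/-- powers of a word -/
def pw (w : List ℕ) : ℕ → List ℕ
  | 0 => []
  | n + 1 => pw w n ++ w

/-- the word `x ^ a₁ t x ^ a₂ t ...` -/
def syl : List ℕ → List ℕ
  | [] => []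
  | a :: l => pw X a ++ (0 :: syl l)

theorem chk_all : chkRel [pw X 5, [0, 0],
    [3, 5] ++ (syl [1, 2, 1, 2, 4, 1, 4, 4, 4, 1] ++ (0 :: syl [3, 1, 3, 1, 2, 1, 4, 2, 2, 3]))] = true := by
  decide +kernel

theorem wprod_pw (w : List ℕ) (n : ℕ) : wprod ml (pw w n) = wprod ml w ^ n := by
  induction n with
  | zero => rfl
  | succ n ih => rw [pw, wprod_append, ih, pow_succ]

theorem wprod_syl_mem {N : Subgroup RuOrder.H} (hx : wprod ml X ∈ N) (ht : T ∈ N) (l : List ℕ) :
    wprod ml (syl l) ∈ N := by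
  induction l with
  | nil => exact N.one_mem
  | cons a l ih =>
    rw [syl, wprod_append, wprod_cons, wprod_pw]
    exact N.mul_mem (N.pow_mem hx a) (N.mul_mem ht ih)

theorem X_ne : wprod ml X ≠ 1 := by
  intro h1
  have h2 := evalK_eq X ⟨0, by norm_num⟩
  rw [h1] at h2
  have h3 : (0 : ℕ) = evalK X 0 := h2
  have h4 : Nat.beq (evalK X 0) 0 = false := by decide +kernel
  rw [← h3] at h4
  exact absurd h4 (by decide)

theorem X_pow : wprod ml X ^ 5 = 1 := by
  rw [← wprod_pw]
  exact rel_of_chk chk_all _ (by simp)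

theorem X_order : orderOf (wprod ml X) = 5 :=
  haveI : Fact (Nat.Prime 5) := ⟨by norm_num⟩
  orderOf_eq_prime X_pow X_ne

theorem T_sq : T * T = 1 := by
  have h := rel_of_chk chk_all [0, 0] (by simp)
  rw [wprod_cons, wprod_cons, wprod_nil, mul_one] at h
  exact h

theorem closure_XT : Subgroup.closure ({wprod ml X, T} : Set RuOrder.H) = ⊤ := by
  set N := Subgroup.closure ({wprod ml X, T} : Set RuOrder.H) with hN
  have hx : wprod ml X ∈ N := Subgroup.subset_closure (by simp)
  have ht : T ∈ N := Subgroup.subset_closure (by simp)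
  have hp : wprod ml [3, 5] ∈ N := by
    have h1 := rel_of_chk chk_all ([3, 5] ++ (syl [1, 2, 1, 2, 4, 1, 4, 4, 4, 1] ++
      (0 :: syl [3, 1, 3, 1, 2, 1, 4, 2, 2, 3]))) (by simp)
    rw [wprod_append] at h1
    rw [eq_inv_of_mul_eq_one_left h1]
    refine N.inv_mem ?_
    rw [wprod_append, wprod_cons]
    exact N.mul_mem (wprod_syl_mem hx ht _) (N.mul_mem ht (wprod_syl_mem hx ht _))
  rw [eq_top_iff, ← H440.TwoGen.Rud.closure_eq, Subgroup.closure_le]
  intro y hy
  simp only [Set.mem_insert_iff, Set.mem_singleton_iff] at hy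
  rcases hy with rfl | rfl
  · exact hp
  · have e : wprod ml H440.TwoGen.Rud.q = T := by
      rw [show H440.TwoGen.Rud.q = [0] from rfl, wprod_cons, wprod_nil, mul_one]
      rfl
    rw [e]
    exact ht

theorem closure_XX : Subgroup.closure ({wprod ml X, T * wprod ml X * T⁻¹} : Set RuOrder.H) = ⊤ :=
  haveI := RuSimple.isSimpleGroup_H
  closure_conj X_ne T_sq closure_XT

/-- two conjugates of an element of order 5 generate the Rudvalis group -/
theorem ru_two : ∃ x t : Spor.Ru, orderOf x = 5 ∧ t * t = 1 ∧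
    Subgroup.closure ({x, t * x * t⁻¹} : Set Spor.Ru) = ⊤ := by
  let e : RuOrder.H ≃* Spor.Ru := RuLat.Main.equiv.symm
  refine ⟨e (wprod ml X), e T, ?_, ?_, ?_⟩
  · rw [MulEquiv.orderOf_eq, X_order]
  · rw [← map_mul, T_sq, map_one]
  · have h1 := congrArg (Subgroup.map e.toMonoidHom) closure_XX
    rw [MonoidHom.map_closure, Subgroup.map_top_of_surjective _ e.surjective] at h1
    rw [← h1]
    congr 1
    rw [Set.image_insert_eq, Set.image_singleton]
    simp

/-- [SP3] at most six conjugates of an element of order 5 generate `Ru` -/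
theorem ru_gen : ∃ x : Spor.Ru, orderOf x = 5 ∧ ∃ l : List Spor.Ru, l.length ≤ 6 ∧
    Subgroup.closure {y : Spor.Ru | ∃ t ∈ l, y = t * x * t⁻¹} = ⊤ := by
  obtain ⟨x, t, h1, _, h3⟩ := ru_two
  refine ⟨x, h1, [1, t], by simp, ?_⟩
  rw [← h3]
  congr 1
  ext y
  simp

end Cfsg.Agent.H269.QA.RuGen
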